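import Groth.Agent.Ega2Va.Crit
import Groth.Agent.AmpleX.BaseChange
import Groth.Agent.S2359

/-!
Very ampleness relative to a projective space and ampleness, over an affine base.
-/

set_option linter.style.haveILetI false
set_option linter.unusedSectionVars false
set_option backward.isDefEq.respectTransparency false
set_option backward.isDefEq.respectTransparency.types false
set_option maxHeartbeats 800000

universe u

open CategoryTheory CategoryTheory.Limits AlgebraicGeometry TopologicalSpace HomogeneousLocalization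
open Groth.Agent.H23.PicMul

namespace Groth.Agent.Ega2Va

open Groth.Agent Groth.Agent.InvX Groth.Agent.H23

variable {X S : Scheme.{u}}

/-- Transport of very ampleness along isomorphisms of modules. -/
theorem isRelVeryAmplePn_of_iso {q : X ⟶ S} {L M : X.Modules} (e : L ≅ M)
    (h : RelAmple.IsRelVeryAmplePn q L) : RelAmple.IsRelVeryAmplePn q M := by
  obtain ⟨n, i, hi, hq, ⟨φ⟩⟩ := h
  exact ⟨n, i, hi, hq, ⟨e.symm ≪≫ φ⟩⟩

/-- Finitely many generators out of any family of generators. -/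
theorem exists_fin_generated [CompactSpace X] {L : X.Modules} (hL : PicF.IsInvertible L) {ι : Type*}
    (s : ι → Γ(L, ⊤)) (hs : ProjUP.GeneratedBy L s) :
    ∃ (m : ℕ) (t : Fin m → Γ(L, ⊤)), ProjUP.GeneratedBy L t := by
  classical
  have h : ∀ x : X, ∃ i, x ∈ TrivBasic.locus (s i) := fun x => by
    obtain ⟨i, U, hx, hU⟩ := InvX.exists_frame_of_generated hL s x (hs x)
    exact ⟨i, TrivBasic.le_locus hU hx⟩
  choose i hi using h
  obtain ⟨T, hT⟩ := isCompact_univ.elim_finite_subcover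
    (fun x => (TrivBasic.locus (s (i x)) : Set X)) (fun x => (TrivBasic.locus (s (i x))).2)
    (fun x _ => Set.mem_iUnion.2 ⟨x, hi x⟩)
  obtain ⟨m, ⟨e⟩⟩ : ∃ m, Nonempty (Fin m ≃ T) := ⟨_, ⟨(Fintype.equivFin _).symm⟩⟩
  refine ⟨m, fun j => s (i (e j)), fun x => ?_⟩
  obtain ⟨y, hy, hxy⟩ := Set.mem_iUnion₂.1 (hT (Set.mem_univ x))
  refine eq_top_iff.2 fun z _ => ?_
  obtain ⟨c, hc⟩ := ((TrivBasic.isFrame_res_of_le_locus
    (le_refl (TrivBasic.locus (s (i y))))).germ_bijective hxy).2 z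
  rw [← hc]
  refine Submodule.smul_mem _ c (Submodule.subset_span ⟨e.symm ⟨y, hy⟩, ?_⟩)
  simp only [Equiv.apply_symm_apply]
  exact (InvX.germ_res' (le_top : TrivBasic.locus (s (i y)) ≤ ⊤) hxy (s (i y))).symm

/-- An ample module has a power which is very ample relative to a projective space. -/
theorem exists_pow_veryAmple [IsAffine S] (q : X ⟶ S) [IsSeparated q]
    [QuasiCompact q] [LocallyOfFiniteType q] {L₀ : X.Modules} (hL₀ : CohB1.IsAmple L₀) :
    ∃ n : ℕ, 0 < n ∧ RelAmple.IsRelVeryAmplePn q (CohB1.tensorPow L₀ n) := by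
  classical
  haveI : CompactSpace X := hL₀.2.1
  haveI : X.IsSeparated := ⟨by
    rw [← Limits.terminal.comp_from q]
    infer_instance⟩
  obtain ⟨a, ha, κ, _, σ, haff, -, hcov⟩ := AmpleX.exists_cover_genLocus hL₀
  let L := CohB1.tensorPow L₀ a
  have hL : PicF.IsInvertible L := InvX.isInvertible_tensorPow hL₀.1 a
  let U : κ → X.Opens := fun i => CohB1.genLocus L (σ i)
  let φ : ∀ i, Γ(S, ⊤) →+* Γ(X, U i) := fun i => (q.appLE ⊤ (U i) le_top).hom
  have hft : ∀ i, (φ i).FiniteType := fun i => q.finiteType_appLE (isAffineOpen_top _) (haff i) le_top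
  have hgen : ∀ i, ∃ G : Finset Γ(X, U i), ∀ B : Subring Γ(X, U i), Set.range (φ i) ⊆ B →
      (G : Set Γ(X, U i)) ⊆ B → B = ⊤ := fun i => by
    letI := (φ i).toAlgebra
    obtain ⟨G, hG⟩ := (show Algebra.FiniteType Γ(S, ⊤) Γ(X, U i) from hft i).out
    refine ⟨G, fun B h1 h2 => top_le_iff.1 fun x hx0 => ?_⟩
    clear hx0
    have hx : x ∈ Algebra.adjoin Γ(S, ⊤) (G : Set Γ(X, U i)) := hG ▸ Algebra.mem_top
    induction hx using Algebra.adjoin_induction with
    | mem y hy => exact h2 hy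
    | algebraMap c => exact h1 ⟨c, rfl⟩
    | add y z _ _ hy hz => exact B.add_mem hy hz
    | mul y z _ _ hy hz => exact B.mul_mem hy hz
  choose G hG using hgen
  have hO : Coh.IsQCoh (Coh.structureModule X) := AmpleX.isQCoh_one X
  choose n₀ hn₀ using fun p : Σ i, G i => AmpleX.exists_extend hO hL (σ p.1)
    (show Γ(Coh.structureModule X, U p.1) from (p.2.1 : Γ(X, U p.1)))
  let N := Finset.univ.sup n₀
  choose T hT using fun p : Σ i, G i => hn₀ p (N + 1) ((Finset.le_sup (Finset.mem_univ p)).trans N.le_succ)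
  let M := CohB1.tensorMod (Coh.structureModule X) (CohB1.tensorPow L (N + 1))
  have hM : PicF.IsInvertible M :=
    InvX.isInvertible_tensorMod InvX.isInvertible_structureModule (InvX.isInvertible_tensorPow hL _)
  let P : κ → Γ(M, ⊤) := fun i =>
    tmul (show Γ(Coh.structureModule X, ⊤) from (1 : Γ(X, ⊤))) (AmpleX.powElt (one (σ i)) (N + 1))
  have hP : ∀ i, TrivBasic.locus (P i) = U i := fun i => by
    have h := genLocus_mulHom InvX.isInvertible_structureModule (InvX.isInvertible_tensorPow hL (N + 1))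
      (ofSect (show Γ(Coh.structureModule X, ⊤) from (1 : Γ(X, ⊤)))) (powHom (σ i) (N + 1))
    rw [genLocus_powHom hL] at h
    have h1 : CohB1.genLocus _ (ofSect (show Γ(Coh.structureModule X, ⊤) from (1 : Γ(X, ⊤)))) = ⊤ :=
      TrivBasic.locus_eq_top_iff.2 (isFrame_one ⊤)
    rw [h1, top_inf_eq] at h
    refine Eq.trans ?_ h
    show CohB1.genLocus _ (ofSect (P i)) = CohB1.genLocus _ (ofSect _)
    rw [one_ofSect, AmpleX.one_powHom]
  obtain ⟨eq1⟩ := cl_eq_iff.1 (show PicF.cl M = PicF.cl (CohB1.tensorPow L₀ (a * (N + 1))) by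
    rw [cl_tensor, cl_tensorPow, cl_tensorPow, cl_tensorPow, ← one_def, one_mul, pow_mul])
  refine ⟨a * (N + 1), Nat.mul_pos ha N.succ_pos, isRelVeryAmplePn_of_iso eq1 ?_⟩
  rcases isEmpty_or_nonempty X with hX | ⟨⟨x₀⟩⟩
  · exact isRelVeryAmplePn_of_sections q hM (n := 0) (fun _ => 0) ∅ (fun x => (hX.false x).elim)
      (fun j hj => hj.elim) (fun j hj => hj.elim)
  obtain ⟨n, ⟨e⟩⟩ : ∃ n, Nonempty (Fin (n + 1) ≃ κ ⊕ Σ i, G i) := by
    obtain ⟨i, -⟩ := hcov x₀
    haveI : Nonempty (κ ⊕ Σ i, G i) := ⟨Sum.inl i⟩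
    obtain ⟨n, hn⟩ := Nat.exists_eq_add_one.2 (Fintype.card_pos (α := κ ⊕ Σ i, G i))
    exact ⟨n, ⟨((finCongr hn.symm).trans (Fintype.equivFin _).symm)⟩⟩
  let s : Fin (n + 1) → Γ(M, ⊤) := fun j => Sum.elim P T (e j)
  have hsl : ∀ i, s (e.symm (Sum.inl i)) = P i := fun i => by simp [s]
  refine isRelVeryAmplePn_of_sections q hM s (Set.range fun i => e.symm (Sum.inl i)) (fun x => ?_) ?_ ?_
  · obtain ⟨i, hi⟩ := hcov x
    exact ⟨_, ⟨i, rfl⟩, by rw [hsl, hP]; exact hi⟩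
  · rintro _ ⟨i, rfl⟩
    rw [hsl, hP]
    exact haff i
  · rintro _ ⟨i, rfl⟩
    have key : ∀ (V : X.Opens), V = U i → ∀ B : Subring Γ(X, V), Set.range (q.appLE ⊤ V le_top).hom ⊆ B →
        (∀ (l : Fin (n + 1)) (b : Γ(X, V)), AModX.res M (le_top : V ≤ ⊤) (s l) =
          b • AModX.res M (le_top : V ≤ ⊤) (P i) → b ∈ B) → B = ⊤ := by
      rintro _ rfl B h1 h2
      refine hG i B h1 fun b hb => h2 (e.symm (Sum.inr ⟨i, b, hb⟩)) b ?_
      rw [show s (e.symm (Sum.inr ⟨i, b, hb⟩)) = T ⟨i, b, hb⟩ by simp [s]]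
      refine (hT ⟨i, b, hb⟩).trans ?_
      rw [res_tmul, AmpleX.res_powElt, show AModX.res (Coh.structureModule X) (le_top : U i ≤ ⊤)
        (show Γ(Coh.structureModule X, ⊤) from (1 : Γ(X, ⊤))) = (1 : Γ(X, U i)) from map_one (AModX.resR _)]
      rw [← tmul_smul_left]
      congr 1
      exact (mul_one b).symm
    intro B h1 h2
    have h2' : ∀ (l : Fin (n + 1)) (b : Γ(X, TrivBasic.locus (s (e.symm (Sum.inl i))))),
        AModX.res M (le_top : TrivBasic.locus (s (e.symm (Sum.inl i))) ≤ ⊤) (s l) =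
          b • AModX.res M (le_top : TrivBasic.locus (s (e.symm (Sum.inl i))) ≤ ⊤) (P i) → b ∈ B :=
      fun l b hb => h2 l b (hb.trans (congrArg (fun z => b • AModX.res M le_top z) (hsl i).symm))
    exact key _ ((congrArg TrivBasic.locus (hsl i)).trans (hP i)) B h1 h2'

/-- The coordinate of a point of projective space read in a chart. -/
theorem ratioOf_comp {n : ℕ} {W : Scheme.{u}} (g : W ⟶ X) (r : X ⟶ CohB1.ProjSpace n ZZ.{u})
    (k l : Fin (n + 1)) {V : X.Opens}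
    (h : V ≤ r ⁻¹ᵁ Proj.basicOpen (CohB1.polyGrading n ZZ.{u}) (MvPolynomial.X k))
    {V' : W.Opens} (hg : V' ≤ g ⁻¹ᵁ V) :
    ProjUPX.ratioOf (g ≫ r) (ProjPt.X_mem l) (ProjPt.X_mem k) (hg.trans (g.preimage_mono h)) =
      g.appLE V V' hg (ProjUPX.ratioOf r (ProjPt.X_mem l) (ProjPt.X_mem k) h) := by
  simp only [ProjUPX.ratioOf, ← CommRingCat.comp_apply, Scheme.Hom.appLE_comp_appLE]

/-- A morphism into a chart of projective space is given by its ratios. -/
theorem eq_ptS {n : ℕ} (h : X ⟶ CohB1.ProjSpace n ZZ.{u}) (k : Fin (n + 1))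
    (e : ⊤ ≤ h ⁻¹ᵁ Proj.basicOpen (CohB1.polyGrading n ZZ.{u}) (MvPolynomial.X k))
    (hu : IsUnit (ProjUPX.ratioOf h (ProjPt.X_mem k) (ProjPt.X_mem k) e)) :
    h = SegreX.ptS (fun l => ProjUPX.ratioOf h (ProjPt.X_mem l) (ProjPt.X_mem k) e) k hu := by
  let ι := Proj.awayι (CohB1.polyGrading n ZZ.{u}) (MvPolynomial.X k) (ProjPt.X_mem k) one_pos
  have hr : Set.range h ⊆ Set.range ι := by
    rintro _ ⟨x, rfl⟩
    have := e (Set.mem_univ x : x ∈ (⊤ : X.Opens))
    rw [← Proj.opensRange_awayι (CohB1.polyGrading n ZZ.{u}) (MvPolynomial.X k) (ProjPt.X_mem k) one_pos] at this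
    exact this
  let p := IsOpenImmersion.lift ι h hr
  have hp : p ≫ ι = h := IsOpenImmersion.lift_fac _ _ _
  refine hp.symm.trans ((SegreX.chart_eq_ptS p).trans ?_)
  have key : SegreX.coords p = fun l => ProjUPX.ratioOf h (ProjPt.X_mem l) (ProjPt.X_mem k) e := by
    funext l
    simp only [ProjUPX.ratioOf, SegreX.coords]
    have e1 : (⊤ : (Spec (CommRingCat.of (Away (CohB1.polyGrading n ZZ.{u}) (MvPolynomial.X k)))).Opens) ≤
        ι ⁻¹ᵁ Proj.basicOpen (CohB1.polyGrading n ZZ.{u}) (MvPolynomial.X k) := by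
      rw [← Proj.opensRange_awayι (CohB1.polyGrading n ZZ.{u}) (MvPolynomial.X k) (ProjPt.X_mem k) one_pos,
        Scheme.Hom.preimage_opensRange]
    have h3 : p.appTop = p.appLE ⊤ ⊤ le_top := (Scheme.Hom.appLE_eq_app (f := p) (U := ⊤)).symm
    rw [← ProjPt.awayι_appLE (CohB1.polyGrading n ZZ.{u}) (ProjPt.X_mem k) one_pos e1, h3]
    simp only [Category.assoc, Scheme.Hom.appLE_comp_appLE]
    have hc : ∀ (h' : X ⟶ CohB1.ProjSpace n ZZ.{u}), h' = h → ∀ e',
        h'.appLE (Proj.basicOpen (CohB1.polyGrading n ZZ.{u}) (MvPolynomial.X k)) ⊤ e' =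
          h.appLE (Proj.basicOpen (CohB1.polyGrading n ZZ.{u}) (MvPolynomial.X k)) ⊤ e := by
      rintro _ rfl _
      rfl
    rw [hc _ hp]
    rfl
  simp only [key]

/-- A very ample module tensored with a finitely generated one is very ample. -/
theorem tensor_generated (q : X ⟶ S) {L L' : X.Modules} (hL : PicF.IsInvertible L)
    (hva : RelAmple.IsRelVeryAmplePn q L) (hL' : PicF.IsInvertible L') {m : ℕ} (t : Fin m → Γ(L', ⊤))
    (ht : ProjUP.GeneratedBy L' t) : RelAmple.IsRelVeryAmplePn q (CohB1.tensorMod L L') := by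
  classical
  obtain ⟨n, i, hi, hiq, ⟨φ⟩⟩ := hva
  let p₁ : CohB1.ProjSpaceOver n S ⟶ CohB1.ProjSpace n ZZ.{u} :=
    pullback.fst (CohB1.ProjSpace.toSpec n ZZ.{u}) (specULiftZIsTerminal.from S)
  let r : X ⟶ CohB1.ProjSpace n ZZ.{u} := i ≫ p₁
  let τ : (Scheme.Modules.pullback r).obj (Twist.twistProjSpace n ZZ.{u} 1) ≅ L :=
    ((Scheme.Modules.pullbackComp i p₁).app _).symm ≪≫ φ.symm
  let s : Fin (n + 1) → Γ(L, ⊤) := fun l =>
    τ.hom.app ⊤ (ProjUP.pullSec r (Twist.twistProjSpace n ZZ.{u} 1) (ProjUP.coord n ZZ.{u} l))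
  have hloc : ∀ l, r ⁻¹ᵁ Proj.basicOpen (CohB1.polyGrading n ZZ.{u}) (MvPolynomial.X l) = TrivBasic.locus (s l) :=
    fun l => AmpleEmbed.preimage_chart r τ l rfl
  have hcs : ∀ x : X, ∃ l, x ∈ TrivBasic.locus (s l) := fun x => by
    obtain ⟨l, hl⟩ := Opens.mem_iSup.1 ((AmpleEmbed.iSup_basicOpen_X n ZZ.{u}).ge (Set.mem_univ (r x)))
    exact ⟨l, (hloc l).le hl⟩
  have hct : ∀ x : X, ∃ j, x ∈ TrivBasic.locus (t j) := fun x => by
    obtain ⟨j, U, hx, hU⟩ := InvX.exists_frame_of_generated hL' t x (ht x)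
    exact ⟨j, TrivBasic.le_locus hU hx⟩
  let M := CohB1.tensorMod L L'
  have hM : PicF.IsInvertible M := InvX.isInvertible_tensorMod hL hL'
  rcases isEmpty_or_nonempty X with hX | ⟨⟨x₀⟩⟩
  · obtain ⟨i', r', τ', hfst', hsnd', hτ', hiso'⟩ := exists_lift q hM (n := 0) (fun _ => 0)
      (fun x => (hX.false x).elim)
    exact ⟨0, i', inferInstance, hsnd', hiso'⟩
  obtain ⟨N, ⟨e⟩⟩ : ∃ N, Nonempty (Fin (N + 1) ≃ Fin (n + 1) × Fin m) := by
    obtain ⟨j, -⟩ := hct x₀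
    haveI : Nonempty (Fin (n + 1) × Fin m) := ⟨(0, j)⟩
    obtain ⟨N, hN⟩ := Nat.exists_eq_add_one.2 (Fintype.card_pos (α := Fin (n + 1) × Fin m))
    exact ⟨N, ⟨((finCongr hN.symm).trans (Fintype.equivFin _).symm)⟩⟩
  let v : Fin (N + 1) → Γ(M, ⊤) := fun l => tmul (s (e l).1) (t (e l).2)
  have hv : ∀ l, TrivBasic.locus (v l) = TrivBasic.locus (s (e l).1) ⊓ TrivBasic.locus (t (e l).2) := fun l => by
    have h := genLocus_mulHom hL hL' (ofSect (s (e l).1)) (ofSect (t (e l).2))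
    refine Eq.trans ?_ h
    show CohB1.genLocus _ (ofSect (v l)) = CohB1.genLocus _ (ofSect _)
    rw [one_ofSect, one_ofSect]
  have hcv : ∀ x : X, ∃ l, x ∈ TrivBasic.locus (v l) := fun x => by
    obtain ⟨a, ha⟩ := hcs x
    obtain ⟨b, hb⟩ := hct x
    exact ⟨e.symm (a, b), by rw [hv, Equiv.apply_symm_apply]; exact ⟨ha, hb⟩⟩
  obtain ⟨i', r', τ', hfst', hsnd', hτ', hiso'⟩ := exists_lift q hM v (fun x => by
    obtain ⟨l, hl⟩ := hcv x
    refine eq_top_iff.2 fun z _ => ?_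
    obtain ⟨c, hc⟩ := ((TrivBasic.isFrame_res_of_le_locus (le_refl (TrivBasic.locus (v l)))).germ_bijective hl).2 z
    rw [← hc]
    exact Submodule.smul_mem _ c (Submodule.subset_span
      ⟨l, (InvX.germ_res' (le_top : TrivBasic.locus (v l) ≤ ⊤) hl (v l)).symm⟩))
  refine ⟨N, i', ?_, hsnd', hiso'⟩
  let P₁ : CohB1.ProjSpaceOver N S ⟶ CohB1.ProjSpace N ZZ.{u} :=
    pullback.fst (CohB1.ProjSpace.toSpec N ZZ.{u}) (specULiftZIsTerminal.from S)
  let P₂ : CohB1.ProjSpaceOver N S ⟶ S :=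
    pullback.snd (CohB1.ProjSpace.toSpec N ZZ.{u}) (specULiftZIsTerminal.from S)
  replace hfst' : i' ≫ P₁ = r' := hfst'
  replace hsnd' : i' ≫ P₂ = q := hsnd'
  let E : Fin (N + 1) → (CohB1.ProjSpaceOver N S).Opens := fun l =>
    P₁ ⁻¹ᵁ Proj.basicOpen (CohB1.polyGrading N ZZ.{u}) (MvPolynomial.X l)
  have hE : ∀ l, i' ⁻¹ᵁ E l = TrivBasic.locus (v l) := fun l => by
    rw [← AmpleEmbed.preimage_chart r' τ' l (hτ' l), ← hfst']; rfl
  refine isImmersion_of_cover i' E (fun x => let ⟨l, hl⟩ := hcv x; ⟨l, (hE l).ge hl⟩) fun l => ?_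
  let W : X.Opens := i' ⁻¹ᵁ E l
  let ρ : Fin (n + 1) → Γ((E l : Scheme), ⊤) := fun a =>
    ProjUPX.ratioOf ((E l).ι ≫ P₁) (ProjPt.X_mem (e.symm (a, (e l).2))) (ProjPt.X_mem l)
      (le_of_eq (by rw [Scheme.Hom.comp_preimage]; exact (Scheme.Opens.ι_preimage_self _).symm))
  have hρ : ρ (e l).1 = 1 := by
    show ProjUPX.ratioOf _ (ProjPt.X_mem (e.symm ((e l).1, (e l).2))) _ _ = 1
    simp only [Prod.mk.eta, Equiv.symm_apply_apply, ProjUPX.ratioOf]
    rw [show Away.mk (CohB1.polyGrading N ZZ.{u}) (ProjPt.X_mem l) 1 (MvPolynomial.X l)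
      (by rw [one_smul]; exact ProjPt.X_mem l) = 1 from ProjPt.crd_self l, map_one, map_one]
  let g : (E l : Scheme) ⟶ CohB1.ProjSpace n ZZ.{u} := SegreX.ptS ρ (e l).1 (hρ ▸ isUnit_one)
  let g' : (E l : Scheme) ⟶ CohB1.ProjSpaceOver n S :=
    pullback.lift g ((E l).ι ≫ P₂) (specULiftZIsTerminal.hom_ext _ _)
  have hWr : W ≤ r ⁻¹ᵁ Proj.basicOpen (CohB1.polyGrading n ZZ.{u}) (MvPolynomial.X (e l).1) := by
    rw [hloc]
    exact (hE l).le.trans ((hv l).le.trans inf_le_left)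
  have hWr' : W ≤ r' ⁻¹ᵁ Proj.basicOpen (CohB1.polyGrading N ZZ.{u}) (MvPolynomial.X l) := by
    rw [AmpleEmbed.preimage_chart r' τ' l (hτ' l)]
    exact (hE l).le
  have eW : (i' ∣_ E l) ≫ (E l).ι ≫ P₁ = W.ι ≫ r' := by
    rw [morphismRestrict_ι_assoc, hfst']
  have key : (i' ∣_ E l) ≫ g = W.ι ≫ r := by
    have h1 : (⊤ : (W : Scheme).Opens) ≤
        (W.ι ≫ r) ⁻¹ᵁ Proj.basicOpen (CohB1.polyGrading n ZZ.{u}) (MvPolynomial.X (e l).1) := by
      rw [Scheme.Hom.comp_preimage, ← W.ι_preimage_self]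
      exact W.ι.preimage_mono hWr
    have hone : ProjUPX.ratioOf (W.ι ≫ r) (ProjPt.X_mem (e l).1) (ProjPt.X_mem (e l).1) h1 = 1 := by
      simp only [ProjUPX.ratioOf]
      rw [show Away.mk (CohB1.polyGrading n ZZ.{u}) (ProjPt.X_mem (e l).1) 1 (MvPolynomial.X (e l).1)
        (by rw [one_smul]; exact ProjPt.X_mem _) = 1 from ProjPt.crd_self _, map_one, map_one]
    rw [eq_ptS (W.ι ≫ r) (e l).1 h1 (hone ▸ isUnit_one), SegreX.comp_ptS]
    congr 1
    funext a
    -- the coordinates agree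
    have hb := ProjUPX.res_pullG r (ProjPt.X_mem a) (ProjPt.X_mem (e l).1) hWr
    have hb' := congrArg (τ.hom.app W) hb
    rw [Scheme.Modules.Hom.app_smul] at hb'
    let b := ProjUPX.ratioOf r (ProjPt.X_mem a) (ProjPt.X_mem (e l).1) hWr
    have es : ∀ c, τ.hom.app W (AModX.res ((Scheme.Modules.pullback r).obj (Twist.twistProjSpace n ZZ.{u} 1))
        (le_top : W ≤ ⊤) (ProjUP.pullSec r (Twist.twistProjSpace n ZZ.{u} 1) (ProjUP.coord n ZZ.{u} c))) =
        AModX.res L (le_top : W ≤ ⊤) (s c) := fun c => AModX.app_res τ.hom _ _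
    have hsb : AModX.res L (le_top : W ≤ ⊤) (s a) = b • AModX.res L (le_top : W ≤ ⊤) (s (e l).1) := by
      rw [← es, ← es]
      exact hb'
    have hvb : AModX.res M (le_top : W ≤ ⊤) (v (e.symm (a, (e l).2))) =
        b • AModX.res M (le_top : W ≤ ⊤) (v l) := by
      simp only [v, Equiv.apply_symm_apply]
      refine (res_tmul (M := L) (N := L') _ _ _).trans ?_
      rw [hsb, tmul_smul_left]
      exact congrArg _ (res_tmul (M := L) (N := L') _ _ _).symm
    have hr' := AmpleEmbed.ratioOf_eq r' τ' l (e.symm (a, (e l).2)) (hτ' l) (hτ' _) hWr' b hvb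
    have h1' : (⊤ : (W : Scheme).Opens) ≤ W.ι ⁻¹ᵁ W := W.ι_preimage_self.ge
    calc (i' ∣_ E l).appTop (ρ a)
        = ProjUPX.ratioOf ((i' ∣_ E l) ≫ (E l).ι ≫ P₁) (ProjPt.X_mem (e.symm (a, (e l).2)))
            (ProjPt.X_mem l) (by rw [eW, Scheme.Hom.comp_preimage]; exact h1'.trans (W.ι.preimage_mono hWr')) := by
          rw [show (i' ∣_ E l).appTop = (i' ∣_ E l).appLE ⊤ ⊤ le_top from
            (Scheme.Hom.appLE_eq_app (f := i' ∣_ E l) (U := ⊤)).symm]
          exact (ratioOf_comp (i' ∣_ E l) ((E l).ι ≫ P₁) l _ _ le_top).symm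
      _ = ProjUPX.ratioOf (W.ι ≫ r') (ProjPt.X_mem (e.symm (a, (e l).2))) (ProjPt.X_mem l)
            (h1'.trans (W.ι.preimage_mono hWr')) := by simp only [eW]
      _ = _ := by
          rw [ratioOf_comp W.ι r' l _ hWr' h1', hr']
          exact (ratioOf_comp W.ι r (e l).1 a hWr h1').symm
  have keyi : (i' ∣_ E l) ≫ g' = W.ι ≫ i := by
    apply pullback.hom_ext
    · rw [Category.assoc, pullback.lift_fst, Category.assoc]
      exact key
    · rw [Category.assoc, pullback.lift_snd, Category.assoc, morphismRestrict_ι_assoc]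
      rw [hsnd', hiq]
  haveI : IsImmersion ((i' ∣_ E l) ≫ g') := by rw [keyi]; infer_instance
  exact IsImmersion.of_comp _ g'

/-- The relative twisting sheaf is relatively ample. -/
theorem isRelAmple_twistOver (n : ℕ) (S : Scheme.{u}) :
    RelAmple.IsRelAmple (CohB1.ProjSpaceOver.toBase n S) (Twist.twistOver n S 1) := by
  haveI : IsProper (CohB1.ProjSpace.toSpec n ZZ.{u}) := PnCoh.Chow.isProper_toSpec n _
  have h : CohB1.IsAmple (Twist.twistProjSpace n ZZ.{u} 1) :=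
    AmpleX.isAmple_twist_one (CohB1.polyGrading n ZZ.{u}) (Finset.univ.image MvPolynomial.X)
      (fun f hf => by
        obtain ⟨j, -, rfl⟩ := Finset.mem_image.1 hf
        exact ProjPt.X_mem j)
      (top_le_iff.1 ((AmpleEmbed.iSup_basicOpen_X n ZZ.{u}).ge.trans (iSup_le fun j =>
        le_iSup_of_le ⟨_, Finset.mem_image_of_mem _ (Finset.mem_univ j)⟩ le_rfl)))
  exact AmpleX.isRelAmple_baseChange (CohB1.ProjSpace.toSpec n ZZ.{u}) (specULiftZIsTerminal.from S)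
    ((AmpleX.isRelAmple_iff_isAmple _ _).2 h)

/-- Very ample relative to a projective space implies relatively ample. -/
theorem isRelAmple_of_veryAmplePn (q : X ⟶ S) [QuasiCompact q] {L : X.Modules}
    (h : RelAmple.IsRelVeryAmplePn q L) : RelAmple.IsRelAmple q L := by
  obtain ⟨n, i, hi, hiq, ⟨φ⟩⟩ := h
  haveI : IsProper (CohB1.ProjSpace.toSpec n ZZ.{u}) := PnCoh.Chow.isProper_toSpec n _
  haveI : IsProper (CohB1.ProjSpaceOver.toBase n S) := MorphismProperty.pullback_snd _ _ ‹_›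
  have hiq' : i ≫ CohB1.ProjSpaceOver.toBase n S = q := hiq
  haveI : QuasiCompact (i ≫ CohB1.ProjSpaceOver.toBase n S) := hiq' ▸ ‹_›
  haveI : QuasiCompact i := QuasiCompact.of_comp i (CohB1.ProjSpaceOver.toBase n S)
  have h1 := S2359.result (CohB1.ProjSpaceOver.toBase n S) i i.isEmbedding _ (isRelAmple_twistOver n S)
  rw [hiq'] at h1
  exact ⟨h1.1, fun V => AmpleX.isAmple_of_iso
    ((Scheme.Modules.restrictFunctor (q ⁻¹ᵁ V.1).ι).mapIso φ.symm) (h1.2 V)⟩

/-- Over an affine base, `L^{⊗ n} ⊗ L'` is very ample for large `n`. -/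
theorem eventually_veryAmple [IsAffine S] (q : X ⟶ S) [IsSeparated q]
    [QuasiCompact q] [LocallyOfFiniteType q] {L L' : X.Modules} (hL : CohB1.IsAmple L) (hL' : PicF.IsInvertible L') :
    ∃ n₀ : ℕ, ∀ n : ℕ, n₀ ≤ n → RelAmple.IsRelVeryAmplePn q (CohB1.tensorMod (CohB1.tensorPow L n) L') := by
  haveI : CompactSpace X := hL.2.1
  haveI : X.IsSeparated := ⟨by
    rw [← Limits.terminal.comp_from q]
    infer_instance⟩
  obtain ⟨a, ha, hva⟩ := exists_pow_veryAmple q hL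
  have hft : CohB1.IsFT L' :=
    QCoh.isFT_of_isFP (QCoh.isFP_of_isFinLocFree (H23.PullPush.isFinLocFree_of_isInvertible hL'))
  obtain ⟨m₀, hm₀⟩ := AmpleX.eventually_generated hL (ProjUPX.isQCoh_of_isInvertible hL') hft
  refine ⟨a + m₀, fun n hn => ?_⟩
  obtain ⟨G, iso, ι, t, ht⟩ := hm₀ (n - a) (by omega)
  have hG : PicF.IsInvertible G := H23.PicMul.isInvertible_of_iso iso.symm
    (InvX.isInvertible_tensorMod hL' (InvX.isInvertible_tensorPow hL.1 _))
  obtain ⟨m, t', ht'⟩ := exists_fin_generated hG t ht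
  obtain ⟨e⟩ := cl_eq_iff.1 (show PicF.cl (CohB1.tensorMod (CohB1.tensorPow L a) G) =
      PicF.cl (CohB1.tensorMod (CohB1.tensorPow L n) L') by
    rw [cl_tensor, cl_eq_iff.2 ⟨iso⟩, cl_tensor, cl_tensor, cl_tensorPow, cl_tensorPow, cl_tensorPow]
    conv_rhs => rw [show n = a + (n - a) by omega, pow_add]
    ac_rfl)
  exact isRelVeryAmplePn_of_iso e
    (tensor_generated q (InvX.isInvertible_tensorPow hL.1 a) hva hG t' ht')

end Groth.Agent.Ega2Va
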