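import Groth.Agent.Lib.AmpleEmbed
import Groth.Agent.AmpleX.RelAffine
import Groth.Prelude.Def_LCI2

/-!
Criteria for being very ample relative to some projective space over an affine base.
-/

set_option linter.style.haveILetI false
set_option linter.unusedSectionVars false
set_option backward.isDefEq.respectTransparency false
set_option backward.isDefEq.respectTransparency.types false
set_option maxHeartbeats 800000

universe u

open CategoryTheory CategoryTheory.Limits AlgebraicGeometry TopologicalSpace HomogeneousLocalization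

namespace Groth.Agent.Ega2Va

open Groth.Agent Groth.Agent.InvX Groth.Agent.H23

/-- The integers in the universe. -/
abbrev ZZ : Type u := ULift.{u} ℤ

variable {X S : Scheme.{u}}

/-- A morphism is an immersion if it is one over opens covering its image. -/
theorem isImmersion_of_cover {Y : Scheme.{u}} (f : X ⟶ Y) {ι : Type*} (D : ι → Y.Opens)
    (hcov : ∀ x, ∃ a, f x ∈ D a) (h : ∀ a, IsImmersion (f ∣_ D a)) : IsImmersion f := by
  let O : Y.Opens := ⨆ a, D a
  let f' : X ⟶ (O : Scheme) := IsOpenImmersion.lift O.ι f (by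
    rw [Scheme.Opens.range_ι]; rintro _ ⟨x, rfl⟩; exact Opens.mem_iSup.2 (hcov x))
  have hf' : f' ≫ O.ι = f := IsOpenImmersion.lift_fac _ _ _
  haveI : IsImmersion f' := by
    refine IsZariskiLocalAtTarget.of_iSup_eq_top (P := @IsImmersion) (fun a => O.ι ⁻¹ᵁ D a) ?_ fun a => ?_
    · refine top_le_iff.1 fun y _ => ?_
      obtain ⟨a, ha⟩ := Opens.mem_iSup.1 y.2
      exact Opens.mem_iSup.2 ⟨a, ha⟩
    · haveI : IsImmersion ((f' ∣_ (O.ι ⁻¹ᵁ D a)) ≫ (O.ι ⁻¹ᵁ D a).ι ≫ O.ι) := by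
        rw [morphismRestrict_ι_assoc, hf', show f' ⁻¹ᵁ (O.ι ⁻¹ᵁ D a) = f ⁻¹ᵁ D a by
          rw [← Scheme.Hom.comp_preimage, hf'], ← morphismRestrict_ι]
        haveI := h a
        infer_instance
      exact IsImmersion.of_comp _ ((O.ι ⁻¹ᵁ D a).ι ≫ O.ι)
  rw [← hf']
  infer_instance

/-- A morphism into `P^n_S` over `S` from generating sections, with the pulled back `O(1)`. -/
theorem exists_lift (q : X ⟶ S) {L : X.Modules} (hL : PicF.IsInvertible L) {n : ℕ} (s : Fin (n + 1) → Γ(L, ⊤))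
    (hs : ProjUP.GeneratedBy L s) :
    ∃ (i : X ⟶ CohB1.ProjSpaceOver n S) (r : X ⟶ CohB1.ProjSpace n ZZ.{u})
      (τ : (Scheme.Modules.pullback r).obj (Twist.twistProjSpace n ZZ.{u} 1) ≅ L),
      i ≫ pullback.fst (CohB1.ProjSpace.toSpec n ZZ.{u}) (specULiftZIsTerminal.from S) = r ∧
      i ≫ pullback.snd (CohB1.ProjSpace.toSpec n ZZ.{u}) (specULiftZIsTerminal.from S) = q ∧
      (∀ l, τ.hom.app ⊤ (ProjUP.pullSec r (Twist.twistProjSpace n ZZ.{u} 1) (ProjUP.coord n ZZ.{u} l)) = s l) ∧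
      Nonempty (L ≅ (Scheme.Modules.pullback i).obj (Twist.twistOver n S 1)) := by
  obtain ⟨r, hr, τ, hτ⟩ := S3572.result n (specULiftZIsTerminal.from X) L hL s hs
  have w : r ≫ CohB1.ProjSpace.toSpec n ZZ.{u} = q ≫ specULiftZIsTerminal.from S :=
    specULiftZIsTerminal.hom_ext _ _
  let i : X ⟶ CohB1.ProjSpaceOver n S := pullback.lift r q w
  have hfst : i ≫ pullback.fst (CohB1.ProjSpace.toSpec n ZZ.{u}) (specULiftZIsTerminal.from S) = r :=
    pullback.lift_fst _ _ _
  refine ⟨i, r, τ, hfst, pullback.lift_snd _ _ _, hτ, ⟨τ.symm ≪≫ ?_⟩⟩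
  exact ((Scheme.Modules.pullbackCongr hfst).app _).symm ≪≫ ((Scheme.Modules.pullbackComp i
    (pullback.fst (CohB1.ProjSpace.toSpec n ZZ.{u}) (specULiftZIsTerminal.from S))).app _).symm

/-- Immersion criterion: affine loci of some of the sections cover, with rings generated by ratios. -/
theorem isRelVeryAmplePn_of_sections [IsAffine S] (q : X ⟶ S) {L : X.Modules} (hL : PicF.IsInvertible L)
    {n : ℕ} (s : Fin (n + 1) → Γ(L, ⊤)) (J : Set (Fin (n + 1)))
    (hcov : ∀ x : X, ∃ j ∈ J, x ∈ TrivBasic.locus (s j))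
    (haff : ∀ j ∈ J, IsAffineOpen (TrivBasic.locus (s j)))
    (hgen : ∀ j ∈ J, ∀ B : Subring Γ(X, TrivBasic.locus (s j)),
      Set.range (q.appLE ⊤ (TrivBasic.locus (s j)) le_top).hom ⊆ B →
      (∀ (l : Fin (n + 1)) (b : Γ(X, TrivBasic.locus (s j))),
        AModX.res L (le_top : TrivBasic.locus (s j) ≤ ⊤) (s l) =
          b • AModX.res L (le_top : TrivBasic.locus (s j) ≤ ⊤) (s j) → b ∈ B) → B = ⊤) :
    RelAmple.IsRelVeryAmplePn q L := by
  have hs : ProjUP.GeneratedBy L s := fun x => by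
    obtain ⟨j, -, hxj⟩ := hcov x
    refine eq_top_iff.2 fun z _ => ?_
    obtain ⟨c, hc⟩ := ((TrivBasic.isFrame_res_of_le_locus (le_refl (TrivBasic.locus (s j)))).germ_bijective hxj).2 z
    rw [← hc]
    exact Submodule.smul_mem _ c (Submodule.subset_span
      ⟨j, (InvX.germ_res' (le_top : TrivBasic.locus (s j) ≤ ⊤) hxj (s j)).symm⟩)
  obtain ⟨i, r, τ, hfst, hsnd, hτ, hiso⟩ := exists_lift q hL s hs
  refine ⟨n, i, ?_, hsnd, hiso⟩
  let p₁ : CohB1.ProjSpaceOver n S ⟶ CohB1.ProjSpace n ZZ.{u} :=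
    pullback.fst (CohB1.ProjSpace.toSpec n ZZ.{u}) (specULiftZIsTerminal.from S)
  let p₂ : CohB1.ProjSpaceOver n S ⟶ S :=
    pullback.snd (CohB1.ProjSpace.toSpec n ZZ.{u}) (specULiftZIsTerminal.from S)
  replace hfst : i ≫ p₁ = r := hfst
  have hsnd' : i ≫ p₂ = q := hsnd
  let D₀ : Fin (n + 1) → (CohB1.ProjSpace n ZZ.{u}).Opens := fun j =>
    Proj.basicOpen (CohB1.polyGrading n ZZ.{u}) (MvPolynomial.X j)
  let D : Fin (n + 1) → (CohB1.ProjSpaceOver n S).Opens := fun j => p₁ ⁻¹ᵁ D₀ j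
  haveI : IsAffineHom p₁ := MorphismProperty.pullback_fst _ _ inferInstance
  have hD : ∀ j, IsAffineOpen (D j) := fun j =>
    (Proj.isAffineOpen_basicOpen _ _ (ProjPt.X_mem _) one_pos).preimage p₁
  have hr0 : ∀ j, r ⁻¹ᵁ D₀ j = TrivBasic.locus (s j) := fun j => AmpleEmbed.preimage_chart r τ j (hτ j)
  have hpre : ∀ j, i ⁻¹ᵁ D j = TrivBasic.locus (s j) := fun j => by
    rw [← hr0 j, ← hfst]; rfl
  have hloc : ∀ j ∈ J, IsClosedImmersion (i ∣_ D j) := fun j hj => by
    haveI : IsAffine (D j : Scheme) := hD j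
    haveI : IsAffine (i ⁻¹ᵁ D j : Scheme) := by rw [hpre]; exact haff j hj
    refine IsClosedImmersion.of_surjective_of_isAffine _ ?_
    have hsurj : Function.Surjective (i.appLE (D j) (TrivBasic.locus (s j)) (hpre j).ge) := by
      refine RingHom.range_eq_top.1 (hgen j hj _ ?_ ?_)
      · rintro _ ⟨c, rfl⟩
        refine ⟨p₂.appLE ⊤ (D j) le_top c, ?_⟩
        rw [← CommRingCat.comp_apply, Scheme.Hom.appLE_comp_appLE]
        simp only [hsnd']
      · intro l b hb
        refine ⟨p₁.appLE (D₀ j) (D j) le_rfl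
          ((Proj.awayToSection (CohB1.polyGrading n ZZ.{u}) (MvPolynomial.X j)).hom
            (Away.mk (CohB1.polyGrading n ZZ.{u}) (ProjPt.X_mem j) 1 (MvPolynomial.X l)
              (by rw [one_smul]; exact ProjPt.X_mem l))), ?_⟩
        rw [← CommRingCat.comp_apply, Scheme.Hom.appLE_comp_appLE]
        simp only [hfst]
        exact AmpleEmbed.ratioOf_eq r τ j l (hτ j) (hτ l) (hr0 j).ge b hb
    intro z
    rw [morphismRestrict_appTop]
    obtain ⟨y, hy⟩ := hsurj (X.presheaf.map (eqToHom (hpre j).symm).op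
      ((i ⁻¹ᵁ D j).topIso.hom z))
    refine ⟨(D j).topIso.inv y, (ConcreteCategory.bijective_of_isIso (i ⁻¹ᵁ D j).topIso.hom).1 ?_⟩
    apply (ConcreteCategory.bijective_of_isIso (X.presheaf.map (eqToHom (hpre j).symm).op)).1
    rw [← hy]
    simp only [← CommRingCat.comp_apply]
    congr 2
    simp only [Scheme.Hom.appLE, Scheme.Opens.topIso, Category.assoc]
    simp [← Functor.map_comp]
    rw [i.naturality_assoc, ← Functor.map_comp]
    rfl
  exact isImmersion_of_cover i (fun j : J => D j)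
    (fun x => let ⟨j, hj, hxj⟩ := hcov x; ⟨⟨j, hj⟩, (hpre j).ge hxj⟩)
    (fun j => haveI := hloc j.1 j.2; inferInstance)

end Groth.Agent.Ega2Va
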